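import Mathlib

/-!
# S4979, layer (I), the Hering step: output structure (helper605)

`M` acts on the elementary abelian `q`-group `W` (a block), `Q` is a normal subgroup of `M` (the kernel on the
blocks). `Good r a W Q C c`: the group induced by `Q` on `W` has a cyclic Sylow `r`-subgroup of order `r ^ a`,
`1 ≤ a`, `r` odd, whose preimage in `Q` is the normal subgroup `C` of `M`, and `c ∈ C` induces a generator.
-/

set_option autoImplicit false

namespace Cfsg.Agent.H605.NX

/-- `C` is the preimage in `Q` of a cyclic Sylow `r`-subgroup (`r` odd, of order `r ^ a ≠ 1`) of the group induced by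
`Q` on `W`, normal in `M`, and `c` induces a generator. -/
structure Good {M : Type*} (W : Type*) [Group M] [AddCommGroup W] [DistribMulAction M W]
    (r a : ℕ) (Q C : Subgroup M) (c : M) : Prop where
  pr : r.Prime
  r2 : r ≠ 2
  a1 : 1 ≤ a
  nC : C.Normal
  CQ : C ≤ Q
  ker : ∀ g ∈ Q, (∀ w : W, g • w = w) → g ∈ C
  mem : ∀ g ∈ Q, (∃ k : ℕ, ∀ w : W, g ^ r ^ k • w = w) → g ∈ C
  idx : ¬ r ∣ C.relIndex Q
  cC : c ∈ C
  gen : ∀ x ∈ C, ∃ k : ℕ, ∀ w : W, x • w = c ^ k • w
  ord : ∀ k : ℕ, (∀ w : W, c ^ k • w = w) ↔ r ^ a ∣ k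
  semireg : ∀ x ∈ C, ∀ w : W, w ≠ 0 → x • w = w → ∀ w' : W, x • w' = w'

end Cfsg.Agent.H605.NX
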