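import Mathlib
import Cfsg.Agent.H605.NX.HerDef
import Cfsg.Agent.Lib.FieldAutCard
import Cfsg.Agent.Lib.Zsigmondy

/-!
# S4979, layer (I), the Hering step: the good prime (helper605)
-/

set_option autoImplicit false
set_option linter.style.haveILetI false

namespace Cfsg.Agent.H605.NX

open MulAction

section
variable {M W A : Type*} [Group M] [Finite M] [AddCommGroup W] [Finite W] [DistribMulAction M W]

omit [Finite M] in
/-- The number of nonzero vectors divides the order of the image of a transitive subgroup. -/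
theorem card_sub_one_dvd_map [Nontrivial W] (Q : Subgroup M)
    (htr : ∀ v w : W, v ≠ 0 → w ≠ 0 → ∃ g ∈ Q, g • v = w) :
    Nat.card W - 1 ∣ Nat.card (Q.map (toPermHom M W)) := by
  classical
  obtain ⟨v, hv⟩ := exists_ne (0 : W)
  set L := Q.map (toPermHom M W)
  have h1 : orbit L v = {0}ᶜ := by
    ext w
    rw [Set.mem_compl_singleton_iff]
    constructor
    · rintro ⟨⟨_, g, hg, rfl⟩, rfl⟩ h
      have h' : g • v = 0 := h
      exact hv ((smul_eq_zero_iff_eq g).1 h')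
    · intro hw
      obtain ⟨k, hk, hkv⟩ := htr v w hv hw
      exact ⟨⟨_, k, hk, rfl⟩, hkv⟩
  have h2 : (stabilizer L v).index = Nat.card W - 1 := by
    rw [index_stabilizer, h1]
    have h3 : ({0} : Set W)ᶜ.ncard = Nat.card W - ({0} : Set W).ncard := Set.ncard_compl _
    rw [Set.ncard_singleton] at h3
    exact h3
  rw [← h2]
  exact Subgroup.index_dvd_card _

/-- The good prime from a normal subgroup inducing a group of scalars of a finite field. -/
theorem good_of [Nontrivial W] [CommGroup A] [Finite A] [IsCyclic A] {r : ℕ} (hr : r.Prime) (hr2 : r ≠ 2) (Q B : Subgroup M)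
    [hQ : Q.Normal] [hB : B.Normal] (lam : B →* A) (hlam : ∀ b : B, lam b = 1 ↔ ∀ w : W, (b : M) • w = w)
    (hker : ∀ g : M, (∀ w : W, g • w = w) → g ∈ B) (hidx : ¬ r ∣ B.index)
    (htr : ∀ v w : W, v ≠ 0 → w ≠ 0 → ∃ g ∈ Q, g • v = w) (hrW : r ∣ Nat.card W - 1) :
    ∃ (a : ℕ) (C : Subgroup M) (c : M), Good W r a Q C c := by
  classical
  haveI := Fact.mk hr
  have hpow : ∀ (g : M) (k : ℕ), (∀ w : W, g ^ r ^ k • w = w) → g ∈ B := by
    intro g k hg
    rw [← QuotientGroup.eq_one_iff]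
    have h1 : orderOf (g : M ⧸ B) ∣ r ^ k := by
      apply orderOf_dvd_of_pow_eq_one
      rw [← QuotientGroup.mk_pow]
      exact (QuotientGroup.eq_one_iff _).2 (hker _ hg)
    have h2 : orderOf (g : M ⧸ B) ∣ B.index := orderOf_dvd_natCard _
    exact orderOf_eq_one_iff.1 (Nat.eq_one_of_dvd_coprimes
      (Nat.Coprime.pow_left k ((Nat.Prime.coprime_iff_not_dvd hr).2 hidx)) h1 h2)
  let C : Subgroup M :=
    { carrier := {g | g ∈ Q ∧ ∃ k : ℕ, ∀ w : W, g ^ r ^ k • w = w}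
      one_mem' := ⟨Q.one_mem, 0, fun w => by rw [one_pow, one_smul]⟩
      mul_mem' := by
        rintro a b ⟨ha, k, hk⟩ ⟨hb, l, hl⟩
        refine ⟨Q.mul_mem ha hb, k + l, ?_⟩
        have ha' := hpow a k hk
        have hb' := hpow b l hl
        have h1 : (lam ⟨a, ha'⟩) ^ r ^ k = 1 := by
          rw [← map_pow]; exact (hlam _).2 hk
        have h2 : (lam ⟨b, hb'⟩) ^ r ^ l = 1 := by
          rw [← map_pow]; exact (hlam _).2 hl
        refine (hlam ⟨(a * b) ^ r ^ (k + l), B.pow_mem (B.mul_mem ha' hb') _⟩).1 ?_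
        have h3 : (⟨(a * b) ^ r ^ (k + l), B.pow_mem (B.mul_mem ha' hb') _⟩ : B) =
            (⟨a, ha'⟩ * ⟨b, hb'⟩) ^ r ^ (k + l) := rfl
        rw [h3, map_pow, map_mul, mul_pow, pow_add, pow_mul, h1, one_pow, one_mul, mul_comm (r ^ k),
          pow_mul, h2, one_pow]
      inv_mem' := by
        rintro a ⟨ha, k, hk⟩
        refine ⟨Q.inv_mem ha, k, fun w => ?_⟩
        rw [inv_pow, inv_smul_eq_iff, hk] }
  have hmemC : ∀ g, g ∈ C ↔ g ∈ Q ∧ ∃ k : ℕ, ∀ w : W, g ^ r ^ k • w = w := fun g => Iff.rfl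
  have hCB : ∀ g ∈ C, g ∈ B := fun g hg => by
    obtain ⟨-, k, hk⟩ := hg
    exact hpow g k hk
  have hCn : C.Normal := by
    constructor
    rintro g ⟨hg, k, hk⟩ x
    refine ⟨hQ.conj_mem g hg x, k, fun w => ?_⟩
    rw [conj_pow, mul_smul, mul_smul, hk, smul_inv_smul]
  -- the image in `A`
  let E : Subgroup A := (C.subgroupOf B).map lam
  obtain ⟨⟨e, he⟩, hgen⟩ := IsCyclic.exists_generator (α := E)
  obtain ⟨⟨c, hcB⟩, hcC, hce⟩ := he
  have hcC' : c ∈ C := hcC
  obtain ⟨-, k₀, hk₀⟩ := hcC'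
  have hord0 : orderOf e ∣ r ^ k₀ := by
    apply orderOf_dvd_of_pow_eq_one
    rw [← hce, ← map_pow]
    exact (hlam _).2 hk₀
  obtain ⟨a, -, ha⟩ := (Nat.dvd_prime_pow hr).1 hord0
  have hord : ∀ k : ℕ, (∀ w : W, c ^ k • w = w) ↔ r ^ a ∣ k := by
    intro k
    rw [← ha, orderOf_dvd_iff_pow_eq_one, ← hce, ← map_pow, hlam]
    rfl
  have hgenC : ∀ x ∈ C, ∃ k : ℕ, ∀ w : W, x • w = c ^ k • w := by
    intro x hx
    have hxB := hCB x hx
    have h1 : lam ⟨x, hxB⟩ ∈ E := ⟨⟨x, hxB⟩, hx, rfl⟩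
    have h2 := hgen ⟨_, h1⟩
    rw [← mem_powers_iff_mem_zpowers] at h2
    obtain ⟨k, hk⟩ := h2
    have h3 : e ^ k = lam ⟨x, hxB⟩ := congrArg Subtype.val hk
    refine ⟨k, fun w => ?_⟩
    have h4 : lam (⟨x, hxB⟩ * (⟨c, hcB⟩ ^ k)⁻¹) = 1 := by
      rw [map_mul, map_inv, map_pow, hce, h3, mul_inv_cancel]
    have h5 := (hlam _).1 h4 (c ^ k • w)
    change (x * (c ^ k)⁻¹) • (c ^ k • w) = c ^ k • w at h5
    rwa [mul_smul, inv_smul_smul] at h5
  have htrM : ∀ v w : W, v ≠ 0 → w ≠ 0 → ∃ g : M, g • v = w := fun v w hv hw => by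
    obtain ⟨g, -, hg⟩ := htr v w hv hw
    exact ⟨g, hg⟩
  refine ⟨a, C, c, hr, hr2, ?_, hCn, fun g hg => hg.1, fun g hg hgw => ⟨hg, 0, by
    intro w; rw [pow_zero, pow_one]; exact hgw w⟩, fun g hg hgw => ⟨hg, hgw⟩, ?_, hcC, hgenC, hord, ?_⟩
  · -- `1 ≤ a`
    by_contra hcon
    have ha0 : a = 0 := by omega
    subst ha0
    have h1 : r ∣ Nat.card (Q.map (toPermHom M W)) := hrW.trans (card_sub_one_dvd_map Q htr)
    obtain ⟨⟨x, g, hg, hgx⟩, hx⟩ := exists_prime_orderOf_dvd_card' r h1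
    have hx' : orderOf x = r := by
      rw [← hx]
      exact Subgroup.orderOf_coe (⟨x, g, hg, hgx⟩ : Q.map (toPermHom M W))
    have h2 : ∀ w : W, g ^ r ^ 1 • w = w := by
      intro w
      have h3 : x ^ r = 1 := by rw [← hx']; exact pow_orderOf_eq_one x
      have h4 : (toPermHom M W) (g ^ r) = 1 := by rw [map_pow, hgx, h3]
      rw [pow_one]
      exact congrArg (fun f : Equiv.Perm W => f w) h4
    obtain ⟨k, hk⟩ := hgenC g ⟨hg, 1, h2⟩
    have h5 : x = 1 := by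
      rw [← hgx]
      ext w
      show g • w = w
      rw [hk, (hord k).2 (by rw [pow_zero]; exact one_dvd _)]
    rw [h5, orderOf_one] at hx'
    exact hr.one_lt.ne hx'
  · -- index
    intro hdvd
    have hCQn : (C.subgroupOf Q).Normal := hCn.comap _
    obtain ⟨x, hx⟩ := exists_prime_orderOf_dvd_card' (G := Q ⧸ C.subgroupOf Q) r hdvd
    obtain ⟨⟨g, hg⟩, rfl⟩ := QuotientGroup.mk_surjective x
    have h1 : ((⟨g, hg⟩ : Q) : Q ⧸ C.subgroupOf Q) ^ r = 1 := by rw [← hx]; exact pow_orderOf_eq_one _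
    rw [← QuotientGroup.mk_pow, QuotientGroup.eq_one_iff] at h1
    have h2 : g ^ r ∈ C := h1
    obtain ⟨-, k, hk⟩ := h2
    have h3 : g ∈ C := ⟨hg, k + 1, by
      intro w
      have := hk w
      rwa [← pow_mul, ← pow_succ'] at this⟩
    have h4 : ((⟨g, hg⟩ : Q) : Q ⧸ C.subgroupOf Q) = 1 := (QuotientGroup.eq_one_iff _).2 h3
    rw [h4, orderOf_one] at hx
    exact hr.one_lt.ne hx
  · -- semiregular
    intro x hx w hw hxw w' 
    by_cases hw' : w' = 0
    · rw [hw', smul_zero]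
    obtain ⟨g, hg⟩ := htrM w w' hw hw'
    obtain ⟨k, hk⟩ := hgenC x hx
    obtain ⟨j, hj⟩ := hgenC (g⁻¹ * c * g) (by
      have := hCn.conj_mem c hcC g⁻¹
      rwa [inv_inv] at this)
    have hρ1 : toPermHom M W x = toPermHom M W c ^ k := by
      rw [← map_pow]; ext w; exact hk w
    have hρ2 : toPermHom M W (g⁻¹ * c * g) = toPermHom M W c ^ j := by
      rw [← map_pow]; ext w; exact hj w
    have hρ3 : toPermHom M W (g⁻¹ * x * g) = toPermHom M W (x ^ j) := by
      rw [map_pow, hρ1, ← pow_mul, mul_comm k j, pow_mul, ← hρ2, ← map_pow]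
      have h6 : (g⁻¹ * c * g) ^ k = g⁻¹ * c ^ k * g := by
        have := conj_pow (i := k) (a := g⁻¹) (b := c)
        rwa [inv_inv] at this
      rw [h6, map_mul, map_mul, map_mul, map_mul, map_pow, hρ1]
    have h7 : (g⁻¹ * x * g) • w = x ^ j • w := congrArg (fun f : Equiv.Perm W => f w) hρ3
    have h8 : x ^ j • w = w := by
      have : x ∈ stabilizer M w := hxw
      exact (stabilizer M w).pow_mem this j
    rw [h8, mul_smul, mul_smul, inv_smul_eq_iff, hg] at h7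
    exact h7

end

end Cfsg.Agent.H605.NX
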