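import Mathlib
import Cfsg.Agent.H605.NX.HerA
import Cfsg.Agent.H615.GW.Semi

/-!
# S4979, layer (I), the Hering step: the semilinear case (helper605)
-/

set_option autoImplicit false
set_option linter.style.haveILetI false

namespace Cfsg.Agent.H605.NX

open MulAction

/-- an odd prime `r` dividing `q ^ d - 1` but not `d`, or `d = 1` and `q` is a Fermat prime -/
theorem exists_good_prime {q d : ℕ} (h5 : 5 ≤ q) (hd : 1 ≤ d) :
    (∃ r : ℕ, r.Prime ∧ r ≠ 2 ∧ r ∣ q ^ d - 1 ∧ ¬ r ∣ d) ∨ (d = 1 ∧ ∃ a : ℕ, q = 2 ^ a + 1) := by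
  rcases Nat.lt_or_ge d 3 with h3 | h3
  · -- `d ≤ 2`
    by_cases h2 : ∃ r : ℕ, r.Prime ∧ r ≠ 2 ∧ r ∣ q ^ d - 1
    · obtain ⟨r, hr, hr2, hrd⟩ := h2
      refine Or.inl ⟨r, hr, hr2, hrd, fun h => ?_⟩
      have h4 : d = 1 ∨ d = 2 := by omega
      rcases h4 with rfl | rfl
      · exact hr.one_lt.ne' (Nat.dvd_one.1 h)
      · exact hr2 ((Nat.prime_dvd_prime_iff_eq hr Nat.prime_two).1 h)
    · push Not at h2
      -- `q ^ d - 1` is a power of two
      have h4 : ∀ m : ℕ, m ≠ 0 → m ∣ q ^ d - 1 → ∃ a, m = 2 ^ a := by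
        intro m hm hmd
        refine ⟨m.primeFactorsList.length, ?_⟩
        refine Nat.eq_prime_pow_of_unique_prime_dvd hm fun {r} hr hrm => ?_
        by_contra hne
        exact h2 r hr hne (hrm.trans hmd)
      have h5' : d = 1 ∨ d = 2 := by omega
      rcases h5' with rfl | rfl
      · right
        obtain ⟨a, ha⟩ := h4 (q ^ 1 - 1) (by rw [pow_one]; omega) dvd_rfl
        rw [pow_one] at ha
        exact ⟨rfl, a, by omega⟩
      · exfalso
        have h6 : q ^ 2 - 1 = (q + 1) * (q - 1) := by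
          have := Nat.sq_sub_sq q 1
          rwa [one_pow] at this
        obtain ⟨a, ha⟩ := h4 (q + 1) (by omega) (h6 ▸ dvd_mul_right _ _)
        obtain ⟨b, hb⟩ := h4 (q - 1) (by omega) (h6 ▸ dvd_mul_left _ _)
        have h7 : 2 ^ a = 2 ^ b + 2 := by omega
        rcases Nat.lt_or_ge b 2 with h8 | h8
        · have : b = 0 ∨ b = 1 := by omega
          rcases this with rfl | rfl <;> omega
        · obtain ⟨b, rfl⟩ := Nat.exists_eq_add_of_le h8
          rcases Nat.lt_or_ge a 2 with h9 | h9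
          · have : a = 0 ∨ a = 1 := by omega
            rcases this with rfl | rfl <;> omega
          · obtain ⟨a, rfl⟩ := Nat.exists_eq_add_of_le h9
            rw [pow_add, pow_add] at h7
            omega
  · left
    obtain ⟨r, hr, h1, h2, -⟩ := Cfsg.Agent.Lib.Zsigmondy.exists_primitive (a := q) (n := d) (by omega) (by omega)
      (by omega) (by omega)
    have h4 : d ≤ r - 1 := Nat.le_of_dvd (by have := hr.two_le; omega) h2
    refine ⟨r, hr, by omega, (h1 d).2 dvd_rfl, fun h => ?_⟩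
    have := Nat.le_of_dvd (by omega) h
    omega

section
variable {M W : Type*} [Group M] [AddCommGroup W] [DistribMulAction M W]
  {F : Type*} [Field F] (e : W ≃+ F)
  (hsem : ∀ g : M, ∃ (c : F) (σ : F ≃+* F), ∀ w : W, e (g • w) = c * σ (e w))

/-- the scalar of a semilinear map -/
noncomputable def cf (g : M) : F := (hsem g).choose

/-- the automorphism of a semilinear map -/
noncomputable def sf (g : M) : F ≃+* F := (hsem g).choose_spec.choose

theorem semf (g : M) (w : W) : e (g • w) = cf e hsem g * sf e hsem g (e w) :=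
  (hsem g).choose_spec.choose_spec w

theorem cf_eq (g : M) : cf e hsem g = e (g • e.symm 1) := by
  rw [semf e hsem, e.apply_symm_apply, map_one, mul_one]

theorem cf_ne (g : M) : cf e hsem g ≠ 0 := by
  intro h
  have h1 := semf e hsem g (g⁻¹ • e.symm 1)
  rw [smul_inv_smul, e.apply_symm_apply, h, zero_mul] at h1
  exact one_ne_zero h1

theorem cf_mul (a b : M) : cf e hsem (a * b) = cf e hsem a * sf e hsem a (cf e hsem b) := by
  rw [cf_eq e hsem (a * b), mul_smul, semf e hsem a, ← cf_eq e hsem b]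

theorem sf_mul (a b : M) (x : F) : sf e hsem (a * b) x = sf e hsem a (sf e hsem b x) := by
  have h1 := semf e hsem (a * b) (e.symm x)
  rw [mul_smul, semf e hsem a, semf e hsem b, e.apply_symm_apply, cf_mul, map_mul, mul_assoc] at h1
  have h2 : sf e hsem a (cf e hsem b) ≠ 0 := (map_ne_zero (sf e hsem a)).2 (cf_ne e hsem b)
  exact (mul_left_cancel₀ h2 (mul_left_cancel₀ (cf_ne e hsem a) h1)).symm

theorem sf_one (x : F) : sf e hsem (1 : M) x = x := by
  have h1 := sf_mul e hsem 1 1 x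
  rw [mul_one] at h1
  exact ((sf e hsem (1 : M)).injective h1.symm)

theorem cf_one : cf e hsem (1 : M) = 1 := by
  rw [cf_eq, one_smul, e.apply_symm_apply]

/-- the map to the automorphism group of the field -/
noncomputable def sfHom : M →* (F ≃+* F) where
  toFun := sf e hsem
  map_one' := RingEquiv.ext fun x => sf_one e hsem x
  map_mul' := fun a b => RingEquiv.ext fun x => sf_mul e hsem a b x

theorem mem_ker (g : M) : g ∈ (sfHom e hsem).ker ↔ ∀ x, sf e hsem g x = x := by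
  rw [MonoidHom.mem_ker]
  constructor
  · intro h x
    exact congrArg (fun f : F ≃+* F => f x) h
  · intro h
    exact RingEquiv.ext h

/-- the scalars -/
noncomputable def lamHom : (sfHom e hsem).ker →* Fˣ where
  toFun := fun g => Units.mk0 (cf e hsem (g : M)) (cf_ne e hsem _)
  map_one' := Units.ext (cf_one e hsem)
  map_mul' := by
    rintro ⟨a, ha⟩ ⟨b, hb⟩
    apply Units.ext
    change cf e hsem (a * b) = cf e hsem a * cf e hsem b
    rw [cf_mul, (mem_ker e hsem a).1 ha]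

theorem lamHom_eq_one (g : (sfHom e hsem).ker) : lamHom e hsem g = 1 ↔ ∀ w : W, (g : M) • w = w := by
  obtain ⟨g, hg⟩ := g
  constructor
  · intro h w
    have h1 : cf e hsem g = 1 := congrArg Units.val h
    apply e.injective
    change e (g • w) = e w
    rw [semf e hsem, h1, one_mul, (mem_ker e hsem g).1 hg]
  · intro h
    apply Units.ext
    change cf e hsem g = 1
    rw [cf_eq, h, e.apply_symm_apply]

theorem mem_ker_of_trivial {g : M} (h : ∀ w : W, g • w = w) : g ∈ (sfHom e hsem).ker := by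
  rw [mem_ker]
  intro x
  have h1 : cf e hsem g = 1 := by rw [cf_eq, h, e.apply_symm_apply]
  have h2 := semf e hsem g (e.symm x)
  rw [h, h1, one_mul, e.apply_symm_apply] at h2
  exact h2.symm

end

section A4

/-- the first double transposition -/
def dta : Equiv.Perm (Fin 4) := Equiv.swap 0 1 * Equiv.swap 2 3
/-- the second double transposition -/
def dtb : Equiv.Perm (Fin 4) := Equiv.swap 0 2 * Equiv.swap 1 3
/-- a three-cycle -/
def dtc : Equiv.Perm (Fin 4) := Equiv.swap 0 1 * Equiv.swap 1 2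

set_option maxRecDepth 20000 in
theorem a4_cube : ∀ x : Equiv.Perm (Fin 4), Equiv.Perm.sign x = 1 →
    (x ^ 3 = 1 ∨ x ^ 3 = dta ∨ x ^ 3 = dtb ∨ x ^ 3 = dta * dtb) := by decide

theorem dta_sign : Equiv.Perm.sign dta = 1 := by decide
theorem dtb_sign : Equiv.Perm.sign dtb = 1 := by decide
theorem dtc_sign : Equiv.Perm.sign dtc = 1 := by decide

theorem a4_rel : dta ^ 2 = 1 ∧ dtb ^ 2 = 1 ∧ dta ≠ 1 ∧ dtb ≠ 1 ∧ dta ≠ dtb ∧
    dtc * dta * dtc⁻¹ = dta * dtb ∧ dtc * (dta * dtb) * dtc⁻¹ = dtb ∧ dtc * dtb * dtc⁻¹ = dta ∧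
    dtc * (dta * dtb) * dtc⁻¹ * (dta * dtb)⁻¹ = dta ∧ dtc * dta * dtc⁻¹ * dta⁻¹ = dtb := by decide

end A4

/-- a finite cyclic group has at most one involution -/
theorem invol_cyclic {A : Type*} [CommGroup A] [Finite A] [IsCyclic A] {x y : A} (hx : x ^ 2 = 1)
    (hy : y ^ 2 = 1) : x = 1 ∨ y = 1 ∨ x = y := by
  classical
  haveI := Fintype.ofFinite A
  by_contra hcon
  push Not at hcon
  obtain ⟨h1, h2, h3⟩ := hcon
  have h4 := IsCyclic.card_pow_eq_one_le (α := A) (n := 2) (by norm_num)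
  have h5 : ({1, x, y} : Finset A) ⊆ Finset.univ.filter (fun a : A => a ^ 2 = 1) := by
    intro z hz
    simp only [Finset.mem_insert, Finset.mem_singleton] at hz
    rw [Finset.mem_filter]
    refine ⟨Finset.mem_univ _, ?_⟩
    rcases hz with rfl | rfl | rfl
    · exact one_pow 2
    · exact hx
    · exact hy
  have h6 := Finset.card_le_card h5
  rw [Finset.card_insert_of_notMem, Finset.card_pair h3] at h6
  · omega
  · simp only [Finset.mem_insert, Finset.mem_singleton]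
    push Not
    exact ⟨Ne.symm h1, Ne.symm h2⟩

section
variable {M W : Type*} [Group M] [Finite M] [AddCommGroup W] [Finite W] [DistribMulAction M W]
  {F : Type*} [Field F] [Finite F]

/-- the case `M / Q ≅ A_4`: a subgroup containing `Q` and the kernel has `3`-power index -/
theorem cube_mem (e : W ≃+ F)
    (hsem : ∀ g : M, ∃ (c : F) (σ : F ≃+* F), ∀ w : W, e (g • w) = c * σ (e w))
    (Q S : Subgroup M) [Q.Normal] [hS : S.Normal] (hQS : Q ≤ S) (hker : ∀ g : M, (∀ w : W, g • w = w) → g ∈ S)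
    (f : M ⧸ Q ≃* alternatingGroup (Fin 4)) (g : M) : g ^ 3 ∈ S := by
  classical
  let f' : M →* Equiv.Perm (Fin 4) := ((alternatingGroup (Fin 4)).subtype.comp f.toMonoidHom).comp (QuotientGroup.mk' Q)
  have hf'1 : ∀ x : M, f' x = 1 → x ∈ S := by
    intro x hx
    apply hQS
    rw [← QuotientGroup.eq_one_iff]
    apply f.injective
    rw [map_one]
    exact Subtype.ext hx
  have hf's : ∀ x : M, Equiv.Perm.sign (f' x) = 1 := fun x => (f (QuotientGroup.mk x)).2
  have hsurj : ∀ y : Equiv.Perm (Fin 4), Equiv.Perm.sign y = 1 → ∃ x : M, f' x = y := by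
    intro y hy
    obtain ⟨x, hx⟩ := QuotientGroup.mk_surjective (f.symm ⟨y, hy⟩)
    refine ⟨x, ?_⟩
    show ((f (QuotientGroup.mk x)) : Equiv.Perm (Fin 4)) = y
    rw [hx, f.apply_symm_apply]
  obtain ⟨ha2, hb2, ha1, hb1, hab, c1, c2, c3, k1, k2⟩ := a4_rel
  obtain ⟨α₀, hα₀⟩ := hsurj dta dta_sign
  obtain ⟨β₀, hβ₀⟩ := hsurj dtb dtb_sign
  obtain ⟨γ, hγ⟩ := hsurj dtc dtc_sign
  -- commutators
  set B := (sfHom e hsem).ker with hB
  have hcomm : ∀ x y : M, x * y * x⁻¹ * y⁻¹ ∈ B := by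
    intro x y
    rw [hB, MonoidHom.mem_ker, map_mul, map_mul, map_mul, map_inv, map_inv]
    have h1 : sfHom e hsem x * sfHom e hsem y = sfHom e hsem y * sfHom e hsem x :=
      Cfsg.Agent.H615.GW.aut_comm _ _
    rw [h1]; group
  obtain ⟨α, hαB, hα⟩ : ∃ α ∈ B, f' α = dta := by
    refine ⟨γ * (α₀ * β₀) * γ⁻¹ * (α₀ * β₀)⁻¹, hcomm _ _, ?_⟩
    rw [map_mul, map_mul, map_mul, map_inv, map_inv, map_mul, hα₀, hβ₀, hγ]
    exact k1
  obtain ⟨β, hβB, hβ⟩ : ∃ β ∈ B, f' β = dtb := by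
    refine ⟨γ * α₀ * γ⁻¹ * α₀⁻¹, hcomm _ _, ?_⟩
    rw [map_mul, map_mul, map_mul, map_inv, map_inv, hα₀, hγ]
    exact k2
  -- membership in `S` depends on `f'` only
  have hmem : ∀ x y : M, f' x = f' y → x ∈ S → y ∈ S := by
    intro x y hxy hx
    have h1 : y * x⁻¹ ∈ S := hf'1 _ (by rw [map_mul, map_inv, hxy, mul_inv_cancel])
    have := S.mul_mem h1 hx
    rwa [inv_mul_cancel_right] at this
  have hconj : ∀ x y : M, x ∈ S → f' y = dtc * f' x * dtc⁻¹ → y ∈ S := by
    intro x y hx hy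
    refine hmem (γ * x * γ⁻¹) y ?_ (hS.conj_mem x hx γ)
    rw [map_mul, map_mul, map_inv, hγ, hy]
  -- one of the three is in `S`
  let Λ : Subgroup Fˣ := (S.subgroupOf B).map (lamHom e hsem)
  haveI : IsCyclic (Fˣ ⧸ Λ) := isCyclic_of_surjective (QuotientGroup.mk' Λ) (QuotientGroup.mk'_surjective Λ)
  have hΛ : ∀ x (hx : x ∈ B), ((lamHom e hsem ⟨x, hx⟩ : Fˣ) : Fˣ ⧸ Λ) = 1 → x ∈ S := by
    intro x hx h
    rw [QuotientGroup.eq_one_iff] at h
    obtain ⟨⟨s, hsB⟩, hsS, hs⟩ := h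
    have h1 : lamHom e hsem (⟨x, hx⟩ * (⟨s, hsB⟩)⁻¹) = 1 := by
      rw [map_mul, map_inv, hs, mul_inv_cancel]
    have h2 := (lamHom_eq_one e hsem _).1 h1
    have h3 : x * s⁻¹ ∈ S := hker _ h2
    have hs' : s ∈ S := hsS
    have := S.mul_mem h3 hs'
    rwa [inv_mul_cancel_right] at this
  have hsq : ∀ x (hx : x ∈ B), (f' x) ^ 2 = 1 → ((lamHom e hsem ⟨x, hx⟩ : Fˣ) : Fˣ ⧸ Λ) ^ 2 = 1 := by
    intro x hx h
    rw [← QuotientGroup.mk_pow, ← map_pow, QuotientGroup.eq_one_iff]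
    refine ⟨⟨x, hx⟩ ^ 2, ?_, rfl⟩
    show x ^ 2 ∈ S
    exact hf'1 _ (by rw [map_pow]; exact h)
  have hall : α ∈ S ∧ β ∈ S := by
    have hαβ : f' (α * β) = dta * dtb := by rw [map_mul, hα, hβ]
    have hi := invol_cyclic (A := Fˣ ⧸ Λ) (hsq α hαB (by rw [hα]; exact ha2))
      (hsq β hβB (by rw [hβ]; exact hb2))
    rcases hi with h | h | h
    · have h1 := hΛ α hαB h
      have h2 : α * β ∈ S := hconj α _ h1 (by rw [hαβ, hα]; exact c1.symm)
      exact ⟨h1, hconj _ β h2 (by rw [hβ, hαβ]; exact c2.symm)⟩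
    · have h1 := hΛ β hβB h
      exact ⟨hconj β α h1 (by rw [hα, hβ]; exact c3.symm), h1⟩
    · have h1 : α * β⁻¹ ∈ S := by
        refine hΛ (α * β⁻¹) (B.mul_mem hαB (B.inv_mem hβB)) ?_
        have h2 : lamHom e hsem ⟨α * β⁻¹, B.mul_mem hαB (B.inv_mem hβB)⟩ =
          lamHom e hsem ⟨α, hαB⟩ * (lamHom e hsem ⟨β, hβB⟩)⁻¹ := by
          rw [← map_inv, ← map_mul]; rfl
        rw [h2, QuotientGroup.mk_mul, QuotientGroup.mk_inv, h, mul_inv_cancel]
      have h2 : α * β ∈ S := by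
        refine hmem _ _ ?_ h1
        have h5 : dtb⁻¹ = dtb := by
          rw [inv_eq_iff_mul_eq_one, ← pow_two]
          exact hb2
        rw [map_mul, map_mul, map_inv, hβ, h5]
      have h3 : β ∈ S := hconj _ β h2 (by rw [hβ, hαβ]; exact c2.symm)
      exact ⟨hconj β α h3 (by rw [hα, hβ]; exact c3.symm), h3⟩
  rcases a4_cube (f' g) (hf's g) with h | h | h | h
  · exact hf'1 _ (by rw [map_pow]; exact h)
  · exact hmem α _ (by rw [hα, map_pow, h]) hall.1
  · exact hmem β _ (by rw [hβ, map_pow, h]) hall.2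
  · exact hmem (α * β) _ (by rw [map_mul, hα, hβ, map_pow, h]) (S.mul_mem hall.1 hall.2)

end

end Cfsg.Agent.H605.NX
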