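import Mathlib
import Cfsg.Agent.H605.NX.HerC

/-!
# S4979, layer (I), the Hering step: normal quaternion groups and `SL(2,5)` in dimension two (helper605)
-/

set_option autoImplicit false
set_option linter.style.haveILetI false
set_option linter.unusedSectionVars false

namespace Cfsg.Agent.H605.NX

open MulAction

/-- in dimension two only scalars commute with two noncommuting maps -/
theorem scalar_of_commute {k V : Type*} [Field k] [AddCommGroup V] [Module k V]
    (h2 : Module.finrank k V = 2) {T U₁ U₂ : V →ₗ[k] V} (h₁ : T * U₁ = U₁ * T) (h₂ : T * U₂ = U₂ * T)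
    (hne : U₁ * U₂ ≠ U₂ * U₁) : ∃ a : k, T = a • 1 := by
  apply LinearMap.exists_eq_smul_id_of_forall_notLinearIndependent
  intro v hv
  let b := basisOfLinearIndependentOfCardEqFinrank hv (by rw [h2]; rfl)
  have hb : ∀ i, b i = (![v, T v] : Fin 2 → V) i := fun i => by
    rw [coe_basisOfLinearIndependentOfCardEqFinrank]
  have key : ∀ U : V →ₗ[k] V, T * U = U * T → ∃ a c : k, U = a • 1 + c • T := by
    intro U hU
    have h3 : U v ∈ Submodule.span k (Set.range (![v, T v] : Fin 2 → V)) := by
      have : Set.range (![v, T v] : Fin 2 → V) = Set.range b := by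
        congr 1
        funext i
        exact (hb i).symm
      rw [this, b.span_eq]
      trivial
    rw [Matrix.range_cons, Matrix.range_cons, Matrix.range_empty, Set.union_empty, Set.singleton_union,
      Submodule.mem_span_pair] at h3
    obtain ⟨a, c, hac⟩ := h3
    refine ⟨a, c, b.ext fun i => ?_⟩
    have h4 : U v = (a • 1 + c • T : V →ₗ[k] V) v := by
      rw [← hac]; rfl
    rw [hb]
    fin_cases i
    · exact h4
    · show U (T v) = (a • 1 + c • T : V →ₗ[k] V) (T v)
      have h5 : U (T v) = T (U v) := (congrArg (fun f : V →ₗ[k] V => f v) hU).symm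
      rw [h5, h4]
      simp
  obtain ⟨a, c, ha⟩ := key U₁ h₁
  obtain ⟨a', c', ha'⟩ := key U₂ h₂
  apply hne
  rw [ha, ha']
  ext w
  simp only [Module.End.mul_apply, LinearMap.add_apply, LinearMap.smul_apply, Module.End.one_apply, map_add, map_smul,
    smul_add, smul_smul]
  rw [mul_comm a' a, mul_comm c' a, mul_comm a' c, mul_comm c' c]
  abel

section
variable {M W : Type*} [Group M] [Finite M] [AddCommGroup W] [Finite W] [DistribMulAction M W]
  {q : ℕ} [hq : Fact q.Prime]

/-- the scalars in dimension two -/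
theorem exists_scalar' [Module (ZMod q) W] (hcard : Nat.card W = q ^ 2) {g u v : M}
    (hu : ∀ w : W, g • u • w = u • g • w) (hv : ∀ w : W, g • v • w = v • g • w)
    (huv : ∃ w : W, u • v • w ≠ v • u • w) : ∃ a : ZMod q, ∀ w : W, g • w = a • w := by
  have hfin : Module.finrank (ZMod q) W = 2 := by
    haveI : Module.Finite (ZMod q) W := Module.Finite.of_finite
    have h1 : Nat.card W = Nat.card (ZMod q) ^ Module.finrank (ZMod q) W :=
      Module.natCard_eq_pow_finrank (K := ZMod q)
    rw [Nat.card_zmod, hcard] at h1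
    exact (Nat.pow_right_injective hq.out.two_le h1).symm
  have h (g : M) : ∃ L : W →ₗ[ZMod q] W, ∀ w, L w = g • w :=
    ⟨AddMonoidHom.toZModLinearMap q (DistribSMul.toAddMonoidHom W g), fun w => rfl⟩
  choose L hL using h
  obtain ⟨a, ha⟩ := scalar_of_commute (T := L g) (U₁ := L u) (U₂ := L v) hfin
    (by
      ext w
      rw [Module.End.mul_apply, Module.End.mul_apply, hL, hL, hL, hL]; exact hu w)
    (by
      ext w
      rw [Module.End.mul_apply, Module.End.mul_apply, hL, hL, hL, hL]; exact hv w)
    (by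
      intro h
      obtain ⟨w, hw⟩ := huv
      have h1 := congrArg (fun f : W →ₗ[ZMod q] W => f w) h
      simp only [Module.End.mul_apply, hL] at h1
      exact hw h1)
  refine ⟨a, fun w => ?_⟩
  rw [← hL, ha]
  rfl

/-- the scalars in dimension two -/
theorem exists_scalar (hexp : ∀ w : W, q • w = 0) (hcard : Nat.card W = q ^ 2) {g u v : M}
    (hu : ∀ w : W, g • u • w = u • g • w) (hv : ∀ w : W, g • v • w = v • g • w)
    (huv : ∃ w : W, u • v • w ≠ v • u • w) : ∃ a : ZMod q, ∀ w : W, g • w = a.val • w := by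
  letI : Module (ZMod q) W := AddCommGroup.zmodModule hexp
  obtain ⟨a, ha⟩ := exists_scalar' hcard hu hv huv
  refine ⟨a, fun w => ?_⟩
  rw [ha]
  conv_lhs => rw [← ZMod.natCast_zmod_val a]
  rw [Nat.cast_smul_eq_nsmul]

/-- a group of scalars is given by a homomorphism into the units of `ZMod q` -/
theorem exists_lam [Nontrivial W] (hexp : ∀ w : W, q • w = 0) (B : Subgroup M)
    (hB : ∀ g ∈ B, ∃ a : ZMod q, ∀ w : W, g • w = a.val • w) :
    ∃ lam : B →* (ZMod q)ˣ, ∀ b : B, lam b = 1 ↔ ∀ w : W, (b : M) • w = w := by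
  letI : Module (ZMod q) W := AddCommGroup.zmodModule hexp
  obtain ⟨w₀, hw₀⟩ := exists_ne (0 : W)
  have hB' : ∀ b : B, ∃ a : ZMod q, ∀ w : W, (b : M) • w = a • w := by
    intro b
    obtain ⟨a, ha⟩ := hB b b.2
    refine ⟨a, fun w => ?_⟩
    rw [ha]
    conv_rhs => rw [← ZMod.natCast_zmod_val a]
    rw [Nat.cast_smul_eq_nsmul]
  choose a ha using hB'
  have huniq : ∀ x y : ZMod q, x • w₀ = y • w₀ → x = y := by
    intro x y h
    have h1 : (x - y) • w₀ = 0 := by rw [sub_smul, h, sub_self]
    by_contra hne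
    apply hw₀
    have h2 : (x - y)⁻¹ • ((x - y) • w₀) = w₀ := by
      rw [smul_smul, inv_mul_cancel₀ (sub_ne_zero.2 hne), one_smul]
    rw [← h2, h1, smul_zero]
  let l : B →* ZMod q :=
    { toFun := a
      map_one' := huniq _ _ (by rw [← ha]; rw [one_smul]; exact one_smul M w₀)
      map_mul' := by
        intro x y
        apply huniq
        rw [← ha, Subgroup.coe_mul, mul_smul, ha y, ha x, mul_smul] }
  refine ⟨l.toHomUnits, fun b => ?_⟩
  constructor
  · intro h w
    have h1 : a b = 1 := congrArg Units.val h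
    rw [ha, h1, one_smul]
  · intro h
    apply Units.ext
    show a b = 1
    apply huniq
    rw [← ha, h, one_smul]

end

end Cfsg.Agent.H605.NX
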