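import Mathlib
import Cfsg.Agent.ClassicalGeometry.PSL2Basic
import Cfsg.Agent.H37.NX.Perm

/-!
# S4979, layer (I), the Hering step: automorphisms of `Q8` and `SL(2,5)` (helper605)
-/

set_option autoImplicit false
set_option linter.style.haveILetI false
set_option linter.unusedSectionVars false

namespace Cfsg.Agent.H605.NX

open MulAction

/-- the number of automorphisms of a two-generated group -/
theorem card_mulAut_le {X : Type*} [Group X] [Finite X] (u v : X) (h : Subgroup.closure {u, v} = ⊤) :
    Nat.card (MulAut X) ≤ Nat.card X ^ 2 := by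
  have hinj : Function.Injective (fun α : MulAut X => (α u, α v)) := by
    intro α β hαβ
    have h1 : α u = β u := congrArg Prod.fst hαβ
    have h2 : α v = β v := congrArg Prod.snd hαβ
    have h3 : α.toMonoidHom = β.toMonoidHom := by
      refine MonoidHom.eq_of_eqOn_dense h ?_
      rintro x (rfl | rfl)
      · exact h1
      · exact h2
    exact MulEquiv.ext fun x => congrArg (fun f : X →* X => f x) h3
  have := Nat.card_le_card_of_injective _ hinj
  rw [Nat.card_prod] at this
  rw [pow_two]
  exact this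

abbrev SL25 := Matrix.SpecialLinearGroup (Fin 2) (ZMod 5)

/-- upper transvection -/
def tu : SL25 := ⟨!![1, 1; 0, 1], by decide⟩
/-- lower transvection -/
def tv : SL25 := ⟨!![1, 0; 1, 1], by decide⟩

theorem tu_pow5 : tu ^ 5 = 1 := by decide
theorem tv_pow5 : tv ^ 5 = 1 := by decide
theorem tu_mul_tv : tu * tv ≠ tv * tu := by decide

theorem tu_pow (k : ℕ) : ((tu ^ k : SL25) : Matrix (Fin 2) (Fin 2) (ZMod 5)) = !![1, (k : ZMod 5); 0, 1] := by
  induction k with
  | zero => ext i j; fin_cases i <;> fin_cases j <;> simp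
  | succ k ih =>
    rw [pow_succ, Matrix.SpecialLinearGroup.coe_mul, ih]
    ext i j
    fin_cases i <;> fin_cases j <;> simp [tu, Matrix.mul_apply, Fin.sum_univ_two, add_comm]

theorem tv_pow (k : ℕ) : ((tv ^ k : SL25) : Matrix (Fin 2) (Fin 2) (ZMod 5)) = !![1, 0; (k : ZMod 5), 1] := by
  induction k with
  | zero => ext i j; fin_cases i <;> fin_cases j <;> simp
  | succ k ih =>
    rw [pow_succ, Matrix.SpecialLinearGroup.coe_mul, ih]
    ext i j
    fin_cases i <;> fin_cases j <;> simp [tv, Matrix.mul_apply, Fin.sum_univ_two]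

theorem closure_tu_tv : Subgroup.closure {tu, tv} = ⊤ := by
  haveI : Fact (Nat.Prime 5) := ⟨by norm_num⟩
  have hu : tu ∈ Subgroup.closure {tu, tv} := Subgroup.subset_closure (Or.inl rfl)
  have hv : tv ∈ Subgroup.closure {tu, tv} := Subgroup.subset_closure (Or.inr rfl)
  have key : ∀ m : SL25, (m : Matrix (Fin 2) (Fin 2) (ZMod 5)) 1 0 ≠ 0 → m ∈ Subgroup.closure {tu, tv} := by
    intro m hc
    set a := (m : Matrix (Fin 2) (Fin 2) (ZMod 5)) 0 0 with ha
    set b := (m : Matrix (Fin 2) (Fin 2) (ZMod 5)) 0 1 with hb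
    set c := (m : Matrix (Fin 2) (Fin 2) (ZMod 5)) 1 0 with hcc
    set d := (m : Matrix (Fin 2) (Fin 2) (ZMod 5)) 1 1 with hd
    have hdet : a * d - b * c = 1 := by
      have := m.det_coe
      rwa [Matrix.det_fin_two] at this
    have h1 : m = tu ^ ((a - 1) * c⁻¹).val * tv ^ c.val * tu ^ ((d - 1) * c⁻¹).val := by
      apply Subtype.ext
      rw [Matrix.SpecialLinearGroup.coe_mul, Matrix.SpecialLinearGroup.coe_mul, tu_pow, tv_pow, tu_pow,
        ZMod.natCast_zmod_val, ZMod.natCast_zmod_val, ZMod.natCast_zmod_val]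
      have h2 : (m : Matrix (Fin 2) (Fin 2) (ZMod 5)) = !![a, b; c, d] := by
        ext i j; fin_cases i <;> fin_cases j <;> rfl
      rw [h2]
      have hb' : b = (a * d - 1) * c⁻¹ := by
        rw [eq_mul_inv_iff_mul_eq₀ hc]
        linear_combination -hdet
      ext i j
      fin_cases i <;> fin_cases j <;> simp [Matrix.mul_apply, Fin.sum_univ_two]
      · field_simp; ring
      · rw [hb']; field_simp; ring
      · field_simp; ring
    rw [h1]
    exact mul_mem (mul_mem (pow_mem hu _) (pow_mem hv _)) (pow_mem hu _)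
  rw [eq_top_iff]
  intro m _
  by_cases hc : (m : Matrix (Fin 2) (Fin 2) (ZMod 5)) 1 0 = 0
  · have h1 : ((tv * m : SL25) : Matrix (Fin 2) (Fin 2) (ZMod 5)) 1 0 ≠ 0 := by
      rw [Matrix.SpecialLinearGroup.coe_mul]
      simp only [tv, Matrix.mul_apply, Fin.sum_univ_two, Matrix.of_apply, Matrix.cons_val', Matrix.cons_val_zero,
        Matrix.cons_val_one, hc, mul_zero, add_zero, one_mul]
      intro h0
      have := m.det_coe
      rw [Matrix.det_fin_two, hc, h0] at this
      simp only [zero_mul, mul_zero, sub_zero] at this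
      exact zero_ne_one this
    have h2 := key _ h1
    have h3 : m = tv⁻¹ * (tv * m) := by group
    rw [h3]
    exact mul_mem (inv_mem hv) h2
  · exact key m hc

theorem card_SL25 : Nat.card SL25 = 120 := by
  haveI : Fact (Nat.Prime 5) := ⟨by norm_num⟩
  rw [Cfsg.Agent.ClassicalGeometry.PSL2Basic.card_SL2, ZMod.card]
  norm_num

theorem card_mulAut_SL25_le : Nat.card (MulAut SL25) ≤ 14400 := by
  have := card_mulAut_le tu tv closure_tu_tv
  rwa [card_SL25] at this

/-- an automorphism of prime order `≥ 7` of a group of order `120` fixes the elements of order `5` -/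
theorem fix_five {X : Type*} [Group X] [Finite X] (hX : Nat.card X = 120) {r : ℕ} [hr : Fact r.Prime]
    (hr7 : 7 ≤ r) {α : MulAut X} (hα : α ^ r = 1) {x : X} (hx : x ^ 5 = 1) : α x = x := by
  classical
  haveI : Fact (Nat.Prime 5) := ⟨by norm_num⟩
  by_cases hx1 : x = 1
  · rw [hx1, map_one]
  -- Sylow `5`-subgroups
  have hs1 : Nat.card (Sylow 5 X) ∣ 24 := by
    obtain ⟨P⟩ : Nonempty (Sylow 5 X) := inferInstance
    have h1 := P.card_dvd_index
    have h2 : Nat.card P = 5 := by
      rw [P.card_eq_multiplicity, hX]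
      have : (120 : ℕ).factorization 5 = 1 := by
        have : (120 : ℕ) = 5 * 24 := rfl
        rw [this, Nat.factorization_mul (by norm_num) (by norm_num), Finsupp.add_apply,
          Nat.Prime.factorization_self (by norm_num), Nat.factorization_eq_zero_of_not_dvd (by norm_num)]
      rw [this, pow_one]
    have h3 := Subgroup.card_mul_index (P : Subgroup X)
    have h4 : Nat.card (P : Subgroup X) = 5 := h2
    rw [h4, hX] at h3
    have h5 : (P : Subgroup X).index = 24 := by omega
    rwa [h5] at h1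
  have hs2 : Nat.card (Sylow 5 X) ≤ 6 := by
    have h1 := card_sylow_modEq_one 5 X
    have h2 : Nat.card (Sylow 5 X) ∈ (24 : ℕ).divisors := Nat.mem_divisors.2 ⟨hs1, by norm_num⟩
    have h3 : (24 : ℕ).divisors = {1, 2, 3, 4, 6, 8, 12, 24} := by decide
    rw [h3] at h2
    simp only [Finset.mem_insert, Finset.mem_singleton] at h2
    unfold Nat.ModEq at h1
    omega
  -- `α` fixes every Sylow `5`-subgroup
  have hfix : ∀ P : Sylow 5 X, α • P = P := by
    intro P
    refine Cfsg.Agent.H37.NX.fix_of_card_lt (p := r) (x := α) (k := 1) (fun b => ?_) Set.univ Set.finite_univ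
      (fun _ _ => Set.mem_univ _) ?_ P (Set.mem_univ _)
    · rw [pow_one, hα, one_smul]
    · rw [Nat.card_univ]; omega
  have hz : IsPGroup 5 (Subgroup.zpowers x) := by
    refine IsPGroup.of_card (n := 1) ?_
    rw [Nat.card_zpowers, pow_one]
    exact orderOf_eq_prime hx hx1
  obtain ⟨P, hP⟩ := hz.exists_le_sylow
  have hxP : x ∈ (P : Subgroup X) := hP (Subgroup.mem_zpowers x)
  have hP5 : Nat.card (P : Subgroup X) = 5 := by
    rw [P.card_eq_multiplicity, hX]
    have : (120 : ℕ).factorization 5 = 1 := by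
      have : (120 : ℕ) = 5 * 24 := rfl
      rw [this, Nat.factorization_mul (by norm_num) (by norm_num), Finsupp.add_apply,
        Nat.Prime.factorization_self (by norm_num), Nat.factorization_eq_zero_of_not_dvd (by norm_num)]
    rw [this, pow_one]
  refine Cfsg.Agent.H37.NX.fix_of_card_lt (p := r) (x := α) (k := 1) (fun b => ?_) (P : Set X) (Set.toFinite _)
      (fun t ht => ?_) ?_ x hxP
  · rw [pow_one, hα, one_smul]
  · have h1 : α • t ∈ ((α • P : Sylow 5 X) : Subgroup X) :=
      Subgroup.smul_mem_pointwise_smul t α (P : Subgroup X) ht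
    rw [hfix P] at h1
    exact h1
  · have : Nat.card (P : Set X) = 5 := hP5
    omega

theorem not_dvd_mulAut_SL25 {r : ℕ} (hr : r.Prime) (hr7 : 7 ≤ r) : ¬ r ∣ Nat.card (MulAut SL25) := by
  intro h
  haveI := Fact.mk hr
  obtain ⟨α, hα⟩ := exists_prime_orderOf_dvd_card' r h
  have h1 : α ^ r = 1 := by rw [← hα]; exact pow_orderOf_eq_one α
  have h2 : α = 1 := by
    have h3 : α.toMonoidHom = (1 : MulAut SL25).toMonoidHom := by
      refine MonoidHom.eq_of_eqOn_dense closure_tu_tv ?_
      rintro x (rfl | rfl)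
      · exact fix_five card_SL25 hr7 h1 tu_pow5
      · exact fix_five card_SL25 hr7 h1 tv_pow5
    exact MulEquiv.ext fun x => congrArg (fun f : SL25 →* SL25 => f x) h3
  rw [h2, orderOf_one] at hα
  exact hr.one_lt.ne hα

/-! ## the quaternion group -/

theorem quat_closure : Subgroup.closure {QuaternionGroup.a 1, QuaternionGroup.xa 0} =
    (⊤ : Subgroup (QuaternionGroup 2)) := by
  rw [eq_top_iff]
  intro x _
  have ha : (QuaternionGroup.a 1 : QuaternionGroup 2) ∈
    Subgroup.closure {QuaternionGroup.a 1, QuaternionGroup.xa 0} := Subgroup.subset_closure (Or.inl rfl)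
  have hb : (QuaternionGroup.xa 0 : QuaternionGroup 2) ∈
    Subgroup.closure {QuaternionGroup.a 1, QuaternionGroup.xa 0} := Subgroup.subset_closure (Or.inr rfl)
  have key : ∀ x : QuaternionGroup 2, ∃ k : Fin 4, ∃ l : Fin 2,
      x = QuaternionGroup.xa 0 ^ (l : ℕ) * QuaternionGroup.a 1 ^ (k : ℕ) := by decide
  obtain ⟨k, l, h⟩ := key x
  rw [h]
  exact mul_mem (pow_mem hb _) (pow_mem ha _)

theorem quat_ne : (QuaternionGroup.a 1 : QuaternionGroup 2) * QuaternionGroup.xa 0 ≠
    QuaternionGroup.xa 0 * QuaternionGroup.a 1 := by decide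

theorem card_quat : Nat.card (QuaternionGroup 2) = 8 := by
  rw [Nat.card_eq_fintype_card, QuaternionGroup.card]

theorem card_mulAut_quat_le : Nat.card (MulAut (QuaternionGroup 2)) ≤ 64 := by
  have := card_mulAut_le _ _ quat_closure
  rwa [card_quat] at this

theorem not_dvd_mulAut_quat : ¬ 11 ∣ Nat.card (MulAut (QuaternionGroup 2)) := by
  intro h
  have h1 : Nat.card (MulAut (QuaternionGroup 2)) ∣ Nat.card (Equiv.Perm (QuaternionGroup 2)) := by
    refine Subgroup.card_dvd_of_injective (MulAut.toPerm (QuaternionGroup 2)) ?_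
    intro α β hαβ
    exact MulEquiv.ext fun x => congrArg (fun f : Equiv.Perm (QuaternionGroup 2) => f x) hαβ
  have h2 := h.trans h1
  rw [Nat.card_perm, card_quat] at h2
  rw [Nat.Prime.dvd_factorial (by norm_num)] at h2
  omega

end Cfsg.Agent.H605.NX
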