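import Mathlib
import Cfsg.Agent.H605.NX.HerG
import Cfsg.Agent.S3695
import Cfsg.Agent.S0242
import Cfsg.Agent.S0245

/-!
# S4979, layer (I): Hering's theorem in the form `HerStmt` (helper605)
-/

set_option autoImplicit false
set_option linter.style.haveILetI false
set_option linter.unusedSectionVars false

namespace Cfsg.Agent.H605.NX

universe v

/-- the order of `SL(a, F)` is divisible by the order of `F` -/
theorem card_dvd_SL (F : Type*) [Field F] [Finite F] {a : ℕ} (ha : 2 ≤ a) :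
    Nat.card F ∣ Nat.card (Matrix.SpecialLinearGroup (Fin a) F) := by
  haveI : Fintype F := Fintype.ofFinite F
  obtain ⟨k, rfl⟩ := Nat.exists_eq_add_of_le' ha
  obtain ⟨q, hq⟩ : ∃ q, Fintype.card F = q := ⟨_, rfl⟩
  have hq2 : 2 ≤ q := by rw [← hq]; exact Fintype.one_lt_card
  have h1 := Cfsg.Agent.S0242.result hq (k + 2) (by omega)
  rw [Fin.prod_univ_castSucc, Fin.prod_univ_castSucc] at h1
  simp only [Fin.val_last, Fin.val_castSucc] at h1
  have h2 : q ^ (k + 2) - q ^ (k + 1) = q ^ (k + 1) * (q - 1) := by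
    rw [Nat.mul_sub, mul_one, ← pow_succ]
  rw [h2, mul_comm (q - 1), ← mul_assoc] at h1
  have h4 := Nat.eq_of_mul_eq_mul_right (by omega) h1
  rw [h4, Nat.card_eq_fintype_card, hq]
  exact Dvd.dvd.mul_left (dvd_pow_self q (by omega)) _

theorem herStmt : HerStmt.{v} := by
  intro q hq h5 V _ _ _ hexp H hadd htr hqH
  haveI := Fact.mk hq
  letI : Module (ZMod q) V := AddCommGroup.zmodModule hexp
  obtain ⟨d, hd⟩ : ∃ d, Module.finrank (ZMod q) V = d := ⟨_, rfl⟩
  have hcard : Nat.card V = q ^ d := by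
    rw [← hd]
    exact Cfsg.Agent.H50.Her.card_space (p := q) (V := V)
  have hd1 : 1 ≤ d := by
    by_contra hcon
    have h1 : d = 0 := by omega
    rw [h1, pow_zero] at hcard
    exact absurd hcard (Finite.one_lt_card (α := V)).ne'
  have hlin : ∀ h ∈ H, ∀ (c : ZMod q) (v : V), h (c • v) = c • h v := by
    intro h hh c v
    have h0 : h 0 = 0 := by
      have h1 := hadd h hh 0 0
      rw [add_zero] at h1
      exact left_eq_add.1 h1
    let f : V →+ V :=
      { toFun := h
        map_zero' := h0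
        map_add' := hadd h hh }
    exact (f.toZModLinearMap q).map_smul c v
  rcases Cfsg.Agent.S3695.result (K := ZMod q) (V := V) q d (ZMod.card q) hd hd1 H hadd
    (fun h hh => ⟨RingEquiv.refl _, fun c v => hlin h hh c v⟩)
    (fun v w hv hw => by
      obtain ⟨h, hh, hv⟩ := htr v w hv hw
      exact ⟨h, hh, 1, by rw [one_smul]; exact hv⟩) with
    ⟨a, b, F, _, _, hab, hF, N, -, h⟩ | ⟨F, i1, i2, e, -, h⟩ | ⟨hn, hq4, h⟩ | ⟨hn, hq4, h⟩ | ⟨hn, hq4, -⟩ |
    ⟨hn, hq4, -⟩ | ⟨hn, hq4, -⟩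
  · exfalso
    have hb : b ≠ 0 := by
      rintro rfl
      rw [mul_zero] at hab
      omega
    have hqF : q ∣ Fintype.card F := by rw [hF]; exact dvd_pow_self q hb
    rcases h with ⟨ha, ⟨e⟩⟩ | ⟨m, rfl, hm, ⟨e⟩⟩ | ⟨rfl, hq2, -⟩ | ⟨rfl, hF2, -⟩
    · apply hqH
      refine Dvd.dvd.trans ?_ (Subgroup.card_subgroup_dvd_card N)
      rw [Nat.card_congr e.toEquiv]
      exact (by rwa [Nat.card_eq_fintype_card] : q ∣ Nat.card F).trans (card_dvd_SL F ha)
    · apply hqH
      refine Dvd.dvd.trans ?_ (Subgroup.card_subgroup_dvd_card N)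
      rw [Nat.card_congr e.toEquiv, Cfsg.Agent.S0245.result hF m]
      exact Dvd.dvd.mul_right ((dvd_pow_self q hb).trans (dvd_pow_self _ (by positivity))) _
    · have := hq.eq_two_or_odd
      omega
    · rw [hF2] at hqF
      have := Nat.le_of_dvd (by norm_num) hqF
      omega
  · exact Or.inl ⟨F, i1, i2, e, h⟩
  · exact Or.inr (Or.inl ⟨by rw [hcard, hn], hq4, h⟩)
  · right; right
    refine ⟨by rw [hcard, hn], ?_, h⟩
    rcases hq4 with rfl | h1 | h1 | h1 | h1
    · exact absurd hq (by decide)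
    · exact Or.inl h1
    · exact Or.inr (Or.inl h1)
    · exact Or.inr (Or.inr (Or.inl h1))
    · exact Or.inr (Or.inr (Or.inr h1))
  · omega
  · omega
  · omega

end Cfsg.Agent.H605.NX
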